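import Mathlib
import Groth.Prelude.Def_GLin
import Groth.Prelude.Def_HopfRep
import Groth.Agent.GrpAlgComod.Basic

/-! Torus actions on affine schemes with positive weight monoid. -/

set_option autoImplicit false

universe u v w

open scoped TensorProduct
open Groth.Agent.GrpAlgComod

namespace Groth.Agent.PosTorus

variable (k : Type u) [Field k] (Λ : Type v) [AddCommGroup Λ]
  (R : Type w) [CommRing R] [Algebra k R]
  [HopfRep.Comod k (AddMonoidAlgebra k Λ) R] [GLin.IsCoactAlg k (AddMonoidAlgebra k Λ) R]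

local notation "KL" => AddMonoidAlgebra k Λ

noncomputable abbrev bas : Module.Basis Λ k KL := AddMonoidAlgebra.basis Λ k

theorem bas_apply (a : Λ) : bas k Λ a = AddMonoidAlgebra.single a (1 : k) := by simp [bas]

theorem comul_bas (a : Λ) : Coalgebra.comul (R := k) (bas k Λ a) = bas k Λ a ⊗ₜ[k] bas k Λ a := by
  rw [bas_apply]; simp

theorem counit_bas (a : Λ) : Coalgebra.counit (R := k) (bas k Λ a) = 1 := by
  rw [bas_apply]; simp

theorem bas_mul (a b : Λ) : bas k Λ a * bas k Λ b = bas k Λ (a + b) := by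
  simp [bas_apply, AddMonoidAlgebra.single_mul_single]

theorem bas_zero : bas k Λ 0 = 1 := by rw [bas_apply, AddMonoidAlgebra.one_def]

/-- The weight space of weight `a`. -/
noncomputable abbrev wt (a : Λ) : Submodule k R :=
  HopfRep.eigenspace k KL R (AddMonoidAlgebra.single a (1 : k))

theorem mem_wt {a : Λ} {f : R} :
    f ∈ wt k Λ R a ↔ HopfRep.Comod.coact (k := k) (A := KL) f = f ⊗ₜ[k] bas k Λ a := by
  rw [bas_apply]; exact Iff.rfl

theorem mem_wt_zero {f : R} : f ∈ wt k Λ R 0 ↔ f ∈ GLin.invariants k KL R := by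
  rw [mem_wt, bas_zero]; rfl

theorem wproj_mem (a : Λ) (f : R) : wproj (bas k Λ) a f ∈ wt k Λ R a :=
  (mem_wt k Λ R).mpr (coact_wproj (bas k Λ) (comul_bas k Λ) a f)

theorem mul_mem_wt {a b : Λ} {f g : R} (hf : f ∈ wt k Λ R a) (hg : g ∈ wt k Λ R b) :
    f * g ∈ wt k Λ R (a + b) := by
  rw [mem_wt] at hf hg ⊢
  rw [GLin.IsCoactAlg.coact_mul, hf, hg, Algebra.TensorProduct.tmul_mul_tmul, bas_mul]

theorem wproj_eq_zero_of_ne {a b : Λ} {f : R} (hf : f ∈ wt k Λ R a) (h : a ≠ b) :
    wproj (bas k Λ) b f = 0 := by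
  classical
  rw [wproj_of_mem (bas k Λ) ((mem_wt k Λ R).mp hf) b, if_neg h]

theorem wproj_self {a : Λ} {f : R} (hf : f ∈ wt k Λ R a) :
    wproj (bas k Λ) a f = f := by
  classical
  rw [wproj_of_mem (bas k Λ) ((mem_wt k Λ R).mp hf) a, if_pos rfl]

variable (hpos : ∀ w : Λ, wt k Λ R w ≠ ⊥ → wt k Λ R (-w) ≠ ⊥ → w = 0)

include hpos in
theorem wproj_zero_mul_of_mem {b : Λ} (hb : b ≠ 0) {f : R} (hf : f ∈ wt k Λ R b) (g : R) :
    wproj (bas k Λ) 0 (g * f) = 0 := by
  obtain ⟨s, -, -, hsum⟩ := eq_sum_wproj (bas k Λ) (counit_bas k Λ) g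
  rw [← hsum, Finset.sum_mul, map_sum]
  refine Finset.sum_eq_zero (fun a _ => ?_)
  by_cases h : a + b = 0
  · by_contra hne
    refine hb (hpos b ?_ ?_)
    · refine (Submodule.ne_bot_iff _).mpr ⟨f, hf, fun hf0 => hne ?_⟩
      rw [hf0, mul_zero, map_zero]
    · rw [← eq_neg_of_add_eq_zero_left h]
      refine (Submodule.ne_bot_iff _).mpr ⟨_, wproj_mem k Λ R a g, fun hg0 => hne ?_⟩
      rw [hg0, zero_mul, map_zero]
  · exact wproj_eq_zero_of_ne k Λ R (mul_mem_wt k Λ R (wproj_mem k Λ R a g) hf) h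

/-- The ideal of functions whose every multiple has weight zero component zero. -/
noncomputable def coreIdeal : Ideal R where
  carrier := {f | ∀ g : R, wproj (bas k Λ) 0 (g * f) = 0}
  add_mem' {x y} hx hy g := by rw [mul_add, map_add, hx g, hy g, add_zero]
  zero_mem' g := by rw [mul_zero, map_zero]
  smul_mem' c x hx g := by rw [smul_eq_mul, ← mul_assoc]; exact hx _

/-- The ideal of the fixed point scheme. -/
noncomputable abbrev fixIdeal : Ideal R :=
  Ideal.span {f : R | ∃ w : Λ, w ≠ 0 ∧ f ∈ wt k Λ R w}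

include hpos in
theorem fixIdeal_le : fixIdeal k Λ R ≤ coreIdeal k Λ R :=
  Ideal.span_le.mpr fun f ⟨_, hw, hf⟩ g => wproj_zero_mul_of_mem k Λ R hpos hw hf g

theorem sub_wproj_zero_mem (f : R) : f - wproj (bas k Λ) 0 f ∈ fixIdeal k Λ R := by
  classical
  obtain ⟨s, hs0, -, hsum⟩ := eq_sum_wproj (bas k Λ) (counit_bas k Λ) f
  have hmem : ∀ a : Λ, a ≠ 0 → wproj (bas k Λ) a f ∈ fixIdeal k Λ R := fun a ha =>
    Ideal.subset_span ⟨a, ha, wproj_mem k Λ R a f⟩
  conv => enter [2, 1]; rw [← hsum]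
  by_cases h0 : (0 : Λ) ∈ s
  · rw [← Finset.add_sum_erase s _ h0, add_sub_cancel_left]
    exact Ideal.sum_mem _ fun c hc => hmem c (Finset.ne_of_mem_erase hc)
  · rw [hs0 0 h0, sub_zero]
    exact Ideal.sum_mem _ fun c hc => hmem c (fun h' => h0 (h' ▸ hc))

include hpos in
theorem bijective_invariants_to_quotient :
    Function.Bijective
      ((Ideal.Quotient.mkₐ k (fixIdeal k Λ R)).comp (GLin.invariants k KL R).val) := by
  constructor
  · intro x y hxy
    have h : (x : R) - (y : R) ∈ fixIdeal k Λ R :=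
      Ideal.Quotient.eq.mp hxy
    have h2 := fixIdeal_le k Λ R hpos h 1
    have h3 : wproj (bas k Λ) 0 ((x : R) - y) = (x : R) - y :=
      wproj_self k Λ R (sub_mem ((mem_wt_zero k Λ R).mpr x.2) ((mem_wt_zero k Λ R).mpr y.2))
    rw [one_mul, h3, sub_eq_zero] at h2
    exact Subtype.ext h2
  · intro q
    obtain ⟨f, rfl⟩ := Ideal.Quotient.mk_surjective q
    refine ⟨⟨_, (mem_wt_zero k Λ R).mp (wproj_mem k Λ R 0 f)⟩, ?_⟩
    exact (Ideal.Quotient.eq.mpr (sub_wproj_zero_mem k Λ R f)).symm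

include hpos in
theorem wproj_zero_mul (f g : R) :
    wproj (bas k Λ) 0 (f * g) = wproj (bas k Λ) 0 f * wproj (bas k Λ) 0 g := by
  have hf := fixIdeal_le k Λ R hpos (sub_wproj_zero_mem k Λ R f) g
  have hg := fixIdeal_le k Λ R hpos (sub_wproj_zero_mem k Λ R g) (wproj (bas k Λ) 0 f)
  have h0 : wproj (bas k Λ) 0 (wproj (bas k Λ) 0 f * wproj (bas k Λ) 0 g) =
      wproj (bas k Λ) 0 f * wproj (bas k Λ) 0 g := by
    refine wproj_self k Λ R ?_
    have := mul_mem_wt k Λ R (wproj_mem k Λ R 0 f) (wproj_mem k Λ R 0 g)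
    rwa [add_zero] at this
  rw [mul_sub, map_sub, sub_eq_zero] at hf hg
  rw [mul_comm f g, hf, mul_comm g, hg, h0]

theorem orbitHom_repr (x : R →ₐ[k] k) (f : R) (a : Λ) :
    (bas k Λ).repr (GLin.orbitHom k KL x f) a = x (wproj (bas k Λ) a f) := by
  simp only [GLin.orbitHom, AlgHom.comp_apply, GLin.coactAlgHom_apply, wproj_apply]
  induction HopfRep.Comod.coact (k := k) (A := KL) f using TensorProduct.induction_on with
  | zero => simp only [map_zero, Finsupp.coe_zero, Pi.zero_apply]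
  | tmul r c =>
    show (bas k Λ).repr (x r • c) a = x (coef (bas k Λ) a (r ⊗ₜ[k] c))
    rw [coef_tmul, map_smul, map_smul, Module.Basis.coord_apply, Finsupp.smul_apply, smul_eq_mul,
      smul_eq_mul, mul_comm]
  | add p q hp hq =>
    rw [map_add, map_add, map_add, Finsupp.add_apply, hp, hq, map_add, map_add]

theorem orbitHom_of_mem (x : R →ₐ[k] k) {a : Λ} {f : R} (hf : f ∈ wt k Λ R a) :
    GLin.orbitHom k KL x f = x f • bas k Λ a := by
  rw [mem_wt] at hf
  simp [GLin.orbitHom, hf]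

theorem isFixedPt_iff (x : R →ₐ[k] k) :
    GLin.IsFixedPt k KL x ↔ ∀ w : Λ, w ≠ 0 → ∀ f ∈ wt k Λ R w, x f = 0 := by
  classical
  constructor
  · intro h w hw f hf
    have h1 := congrArg (fun φ => (bas k Λ).repr (φ f) w) h
    simp only [orbitHom_of_mem k Λ R x hf, AlgHom.comp_apply, Algebra.ofId_apply,
      Algebra.algebraMap_eq_smul_one, ← bas_zero, map_smul, Module.Basis.repr_self,
      Finsupp.smul_apply, Finsupp.single_apply, if_pos, smul_eq_mul, mul_one] at h1
    rw [if_neg (Ne.symm hw), mul_zero] at h1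
    exact h1
  · intro h
    refine AlgHom.ext fun f => ?_
    have hmem : f - wproj (bas k Λ) 0 f ∈ RingHom.ker x := by
      have hle : fixIdeal k Λ R ≤ RingHom.ker x :=
        Ideal.span_le.mpr fun g ⟨w, hw, hg⟩ => h w hw g hg
      exact hle (sub_wproj_zero_mem k Λ R f)
    rw [RingHom.mem_ker, map_sub, sub_eq_zero] at hmem
    refine (bas k Λ).repr.injective (Finsupp.ext fun a => ?_)
    rw [orbitHom_repr]
    simp only [AlgHom.comp_apply, Algebra.ofId_apply, Algebra.algebraMap_eq_smul_one, ← bas_zero,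
      map_smul, Module.Basis.repr_self, Finsupp.smul_apply, Finsupp.single_apply, smul_eq_mul]
    by_cases ha : a = 0
    · subst ha; rw [if_pos rfl, mul_one, hmem]
    · rw [if_neg (Ne.symm ha), mul_zero]
      exact h a ha _ (wproj_mem k Λ R a f)

theorem isClosedOrbit_of_isFixedPt (x : R →ₐ[k] k) (hx : GLin.IsFixedPt k KL x) :
    GLin.IsClosedOrbit k KL x := by
  have hmax : (RingHom.ker x.toRingHom).IsMaximal :=
    RingHom.ker_isMaximal_of_surjective _ (fun c => ⟨algebraMap k R c, by simp⟩)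
  have hrange : Set.range (PrimeSpectrum.comap (GLin.orbitHom k KL x).toRingHom) =
      {(⟨RingHom.ker x.toRingHom, hmax.isPrime⟩ : PrimeSpectrum R)} := by
    have key : ∀ P : PrimeSpectrum KL, PrimeSpectrum.comap (GLin.orbitHom k KL x).toRingHom P =
        ⟨RingHom.ker x.toRingHom, hmax.isPrime⟩ := fun P => by
      refine PrimeSpectrum.ext (hmax.eq_of_le ?_ ?_).symm
      · exact (PrimeSpectrum.comap _ P).isPrime.ne_top
      · intro f hf
        show GLin.orbitHom k KL x f ∈ P.asIdeal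
        rw [hx]
        simp [show x f = 0 from hf]
    refine Set.eq_singleton_iff_nonempty_unique_mem.mpr ⟨Set.range_nonempty _, ?_⟩
    rintro _ ⟨P, rfl⟩
    exact key P
  unfold GLin.IsClosedOrbit
  rw [hrange]
  exact (PrimeSpectrum.isClosed_singleton_iff_isMaximal _).mpr hmax

include hpos in
theorem isFixedPt_of_isClosedOrbit (x : R →ₐ[k] k) (hx : GLin.IsClosedOrbit k KL x) :
    GLin.IsFixedPt k KL x := by
  rw [isFixedPt_iff]
  intro w hw f hf
  by_contra hne
  have hone : wproj (bas k Λ) 0 (1 : R) = 1 :=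
    wproj_self k Λ R ((mem_wt_zero k Λ R).mpr (one_mem _))
  let y : R →ₐ[k] k := AlgHom.ofLinearMap (x.toLinearMap ∘ₗ wproj (bas k Λ) 0)
    (by simp [hone]) (fun a b => by simp [wproj_zero_mul k Λ R hpos])
  have hy : ∀ g : R, y g = x (wproj (bas k Λ) 0 g) := fun g => rfl
  let Y : PrimeSpectrum R := ⟨RingHom.ker y.toRingHom, RingHom.ker_isPrime _⟩
  have hY : Y ∈ closure (Set.range (PrimeSpectrum.comap (GLin.orbitHom k KL x).toRingHom)) := by
    rw [PrimeSpectrum.closure_range_comap, PrimeSpectrum.mem_zeroLocus]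
    intro g hg
    show y g = 0
    rw [hy, ← orbitHom_repr k Λ R x g 0]
    have : GLin.orbitHom k KL x g = 0 := hg
    simp [this]
  rw [IsClosed.closure_eq hx] at hY
  obtain ⟨P, hP⟩ := hY
  have hmem : GLin.orbitHom k KL x f ∈ P.asIdeal := by
    have : f ∈ Y.asIdeal := by
      show y f = 0
      rw [hy, wproj_eq_zero_of_ne k Λ R hf hw, map_zero]
    rw [← hP] at this
    exact this
  rw [orbitHom_of_mem k Λ R x hf, bas_apply, AddMonoidAlgebra.smul_single, smul_eq_mul, mul_one] at hmem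
  refine P.isPrime.ne_top (Ideal.eq_top_of_isUnit_mem _ hmem ?_)
  exact IsUnit.of_mul_eq_one (AddMonoidAlgebra.single (-w) (x f)⁻¹)
    (by rw [AddMonoidAlgebra.single_mul_single, mul_inv_cancel₀ hne, add_neg_cancel,
      AddMonoidAlgebra.one_def])

end Groth.Agent.PosTorus
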